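import Cfsg.Agent.Lib.FPD.Box
import Cfsg.Agent.Lib.Cop.Inv

/-!
Operator groups `A = K ⟨h⟩` with `K` normal of order prime to `|G|` and no fixed points:
the conjugacy lemma for supplements holds for all invariant subgroups.
-/

set_option autoImplicit false

namespace CfsgLib.FpfK

open Subgroup Cfsg CfsgLib.LAE CfsgLib.Cop
open scoped commutatorElement

universe u

variable {X : Type u} [Group X] [Finite X]

/-- The map `x ↦ [x, h]` is onto `C` if `h` normalizes `C` and has no fixed points there. -/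
theorem lang {C : Subgroup X} {h : X} (hn : h ∈ normalizer (C : Set X))
    (hf : ∀ x ∈ C, Commute x h → x = 1) {c : X} (hc : c ∈ C) :
    ∃ x ∈ C, x * h * x⁻¹ = c * h := by
  let f : C → C := fun x => ⟨x.1 * (h * x.1⁻¹ * h⁻¹),
    mul_mem x.2 (conj_mem_of_mem_normalizer hn (inv_mem x.2))⟩
  have hi : Function.Injective f := by
    intro x y e
    have e1 : x.1 * (h * x.1⁻¹ * h⁻¹) = y.1 * (h * y.1⁻¹ * h⁻¹) := congrArg Subtype.val e
    have e2 : y.1⁻¹ * x.1 = 1 := by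
      refine hf _ (mul_mem (inv_mem y.2) x.2) ?_
      show y.1⁻¹ * x.1 * h = h * (y.1⁻¹ * x.1)
      calc y.1⁻¹ * x.1 * h = y.1⁻¹ * (x.1 * (h * x.1⁻¹ * h⁻¹)) * h * x.1 := by group
        _ = h * (y.1⁻¹ * x.1) := by rw [e1]; group
    exact Subtype.ext (inv_mul_eq_one.1 e2).symm
  obtain ⟨x, hx⟩ := (Finite.injective_iff_surjective.1 hi) ⟨c, hc⟩
  have e : x.1 * (h * x.1⁻¹ * h⁻¹) = c := congrArg Subtype.val hx
  exact ⟨x.1, x.2, by rw [← e]; group⟩

/-- The operator group is `K ⟨h⟩`, with `K` normal of order prime to `|G|`. -/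
structure Hy (A G K : Subgroup X) (h : X) : Prop where
  KA : K ≤ A
  hA : h ∈ A
  nK : A ≤ normalizer (K : Set X)
  cop : (Nat.card K).Coprime (Nat.card G)
  gen : ∀ a ∈ A, ∃ k ∈ K, ∃ y ∈ zpowers h, a = k * y
  fix : G ⊓ centralizer (A : Set X) = ⊥

variable {A G K : Subgroup X} {h : X}

/-- The conjugacy lemma for supplements. -/
theorem Hy.gl (H : Hy A G K h) {N : Subgroup X} (hN : N ≤ G) (hAN : A ≤ normalizer (N : Set X))
    (W : Subgroup X) (hW : ∀ a ∈ A, ∃ n ∈ N, ∃ w ∈ W, a = n * w) :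
    ∃ n ∈ N, ∀ a ∈ A, n * a * n⁻¹ ∈ W := by
  have cop : ∀ {M : Subgroup X}, M ≤ N → (Nat.card K).Coprime (Nat.card M) := fun hM =>
    H.cop.coprime_dvd_right (card_dvd_of_le (hM.trans hN))
  obtain ⟨n₁, hn₁, h1⟩ := Coprime.exists_conj_mem_of_subset_mul (H.KA.trans hAN) (cop le_rfl)
    (FPD.solv_or (cop le_rfl)) fun a ha => hW a (H.KA ha)
  set W₁ := conjS n₁⁻¹ W with hW₁
  have mW : ∀ x, x ∈ W₁ ↔ n₁ * x * n₁⁻¹ ∈ W := fun x => by
    rw [hW₁, mem_conjS]; simp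
  have KW : K ≤ W₁ := fun k hk => (mW k).2 (h1 k hk)
  obtain ⟨n₀, hn₀, w₀, hw₀, e₀⟩ := hW h H.hA
  -- `h = n * w` with `w ∈ W₁`
  obtain ⟨n, hn, hw⟩ : ∃ n ∈ N, n⁻¹ * h ∈ W₁ := by
    refine ⟨h * n₁⁻¹ * h⁻¹ * n₀ * n₁, mul_mem (mul_mem (conj_mem_of_mem_normalizer (hAN H.hA)
      (inv_mem hn₁)) hn₀) hn₁, (mW _).2 ?_⟩
    have : w₀ = n₀⁻¹ * h := by rw [e₀]; group
    rw [this] at hw₀
    convert hw₀ using 1
    group
  have hKN : K ≤ normalizer ((N ⊓ W₁ : Subgroup X) : Set X) :=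
    le_normalizer_inf (H.KA.trans hAN) (KW.trans le_normalizer)
  obtain ⟨m, hm, h2⟩ := Coprime.exists_conj_mem_of_subset_mul (S := conjS n⁻¹ K) hKN
    (cop inf_le_left) (FPD.solv_or (cop inf_le_left)) fun k hk => by
      have h3 : n⁻¹ * k * n ∈ W₁ := by
        rw [show n⁻¹ * k * n = n⁻¹ * h * (h⁻¹ * k * h) * (n⁻¹ * h)⁻¹ by group]
        exact mul_mem (mul_mem hw (KW (conj_inv_mem_of_mem_normalizer (H.nK H.hA) hk)))
          (inv_mem hw)
      refine ⟨k * (n⁻¹ * k * n)⁻¹, mem_inf.2 ⟨?_, mul_mem (KW hk) (inv_mem h3)⟩, n⁻¹ * k * n,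
        ?_, by group⟩
      · rw [show k * (n⁻¹ * k * n)⁻¹ = k * n⁻¹ * k⁻¹ * n by group]
        exact mul_mem (conj_mem_of_mem_normalizer (hAN (H.KA hk)) (inv_mem hn)) hn
      · rw [mem_conjS]; simpa [mul_assoc] using hk
  have hc : n * m ∈ N ⊓ centralizer (K : Set X) := by
    refine mem_inf.2 ⟨mul_mem hn hm.1, mem_centralizer_iff.2 fun k hk => ?_⟩
    have h3 : n * m * k * (n * m)⁻¹ ∈ K := by
      have := h2 k hk
      rw [mem_conjS] at this
      simpa [mul_assoc] using this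
    have h4 : ⁅n * m, k⁆ ∈ K ⊓ N := by
      refine mem_inf.2 ⟨mul_mem h3 (inv_mem hk), ?_⟩
      rw [show ⁅n * m, k⁆ = n * m * (k * (n * m)⁻¹ * k⁻¹) by
        simp only [commutatorElement_def]; group]
      exact mul_mem (mul_mem hn hm.1) (conj_mem_of_mem_normalizer (hAN (H.KA hk))
        (inv_mem (mul_mem hn hm.1)))
    rw [disjoint_iff.1 (disjoint_of_coprime_natCard (cop le_rfl)), mem_bot,
      commutatorElement_eq_one_iff_mul_comm] at h4
    exact h4.symm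
  have hC : h ∈ normalizer ((N ⊓ centralizer (K : Set X) : Subgroup X) : Set X) :=
    le_normalizer_inf hAN (H.nK.trans (normalizer_le_normalizer_centralizer K)) H.hA
  obtain ⟨x, hx, e⟩ := lang hC (fun x hx hc => by
    refine mem_bot.1 ?_
    rw [← H.fix]
    refine mem_inf.2 ⟨hN hx.1, mem_centralizer_iff.2 fun a ha => ?_⟩
    obtain ⟨k, hk, y, ⟨i, rfl⟩, rfl⟩ := H.gen a ha
    have c1 : Commute k x := hx.2 k hk
    exact (c1.mul_left (hc.symm.zpow_left i)).eq) (inv_mem hc)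
  have h5 : x * h * x⁻¹ ∈ W₁ := by
    rw [e, show (n * m)⁻¹ * h = m⁻¹ * (n⁻¹ * h) by group]
    exact mul_mem (inv_mem hm.2) hw
  refine ⟨n₁ * x, mul_mem hn₁ hx.1, fun a ha => ?_⟩
  rw [show n₁ * x * a * (n₁ * x)⁻¹ = n₁ * (x * a * x⁻¹) * n₁⁻¹ by group, ← mW]
  obtain ⟨k, hk, y, ⟨i, rfl⟩, rfl⟩ := H.gen a ha
  have c1 : k * x = x * k := hx.2 k hk
  rw [show x * (k * h ^ i) * x⁻¹ = x * k * x⁻¹ * (x * h ^ i * x⁻¹) by group, ← c1,
    mul_inv_cancel_right, ← conj_zpow]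
  exact mul_mem (KW hk) (zpow_mem h5 i)

theorem Hy.noFix (H : Hy A G K h) (hG : A ≤ normalizer (G : Set X)) (hd : A ⊓ G = ⊥) :
    NoFix A G := by
  intro N hN hAN g hg _ _ hc
  obtain ⟨k, hk, h1⟩ := exists_cent_of_conj hG hd hN (H.gl hN hAN) hg hc
  rw [H.fix, mem_bot, inv_mul_eq_one] at h1
  rwa [h1]

omit [Finite X] in
/-- `NoFix` passes to groups that contain a `G`-conjugate of `A`. -/
theorem noFix_of_conj (hf : NoFix A G) {Y : Subgroup X} {g : X} (hg : g ∈ G)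
    (hY : ∀ a ∈ A, g * a * g⁻¹ ∈ Y) : NoFix Y G := by
  intro N hN hYN x hx hn h2 hc
  have mN : ∀ y, y ∈ conjS g⁻¹ N ↔ g * y * g⁻¹ ∈ N := fun y => by
    rw [mem_conjS]; simp
  have mn : ∀ y, g * y * g⁻¹ ∈ normalizer (N : Set X) →
      y ∈ normalizer (conjS g⁻¹ N : Set X) := fun y hy => by
    rw [← conjS_normalizer, mem_conjS]; simpa using hy
  have h1 := hf (conjS g⁻¹ N) (fun y hy => by
      have := hN ((mN y).1 hy)
      rw [show y = g⁻¹ * (g * y * g⁻¹) * g by group]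
      exact mul_mem (mul_mem (inv_mem hg) this) hg)
    (fun a ha => mn a (hYN (hY a ha))) (g⁻¹ * x * g) (mul_mem (mul_mem (inv_mem hg) hx) hg)
    (mn _ (by convert hn using 1; group)) ((mN _).2 (by convert h2 using 1; group))
    fun a ha => (mN _).2 (by
      convert hc _ (hY a ha) using 1
      simp only [commutatorElement_def]; group)
  rw [mN] at h1
  convert h1 using 1
  group

/-- All supplements to `G` are free of fixed involutions in sections. -/
theorem Hy.inv (H : Hy A G K h) [G.Normal] (hd : A ⊓ G = ⊥) (Y : Subgroup X) (hY : Y ⊔ G = ⊤) :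
    NoFix Y G := by
  obtain ⟨g, hg, h1⟩ := H.gl le_rfl le_normalizer_of_normal Y fun a _ => SupHy.exists_mul hY a
  exact noFix_of_conj (H.noFix le_normalizer_of_normal hd) hg h1

section

universe v

variable {G : Type u} {A : Type v} [Group G] [Finite G] [Group A] [Finite A]

open SemidirectProduct

/-- Fixed-point-free operator groups `K ⟨h⟩` force solvability. -/
theorem solv_of_gen (box : FPD.Box.{max u v}) (φ : A →* MulAut G)
    (hfpf : ∀ g : G, (∀ a : A, φ a g = g) → g = 1) (K : Subgroup A) [hK : K.Normal]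
    (hc : (Nat.card K).Coprime (Nat.card G)) (h : A)
    (gen : ∀ a : A, ∃ k ∈ K, ∃ y ∈ zpowers h, a = k * y) : Group.IsSolvable G := by
  have : Finite (G ⋊[φ] A) := Finite.of_equiv _ (SemidirectProduct.equivProd).symm
  let G' : Subgroup (G ⋊[φ] A) := (inl : G →* G ⋊[φ] A).range
  let A' : Subgroup (G ⋊[φ] A) := (inr : A →* G ⋊[φ] A).range
  have e : G ≃* G' := MonoidHom.ofInjective inl_injective
  have hn : G'.Normal := by
    show (inl : G →* G ⋊[φ] A).range.Normal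
    rw [range_inl_eq_ker_rightHom]; infer_instance
  have hd : A' ⊓ G' = ⊥ := by
    refine eq_bot_iff.2 ?_
    rintro _ ⟨⟨a, rfl⟩, g, hg⟩
    have := congrArg rightHom hg
    simp only [rightHom_inl, rightHom_inr] at this
    rw [← this, map_one]
    exact one_mem _
  have H : Hy A' G' (K.map inr) (inr h) := by
    refine ⟨map_le_range _ _, ⟨h, rfl⟩, ?_, ?_, ?_, ?_⟩
    · rintro _ ⟨a, rfl⟩
      exact le_normalizer_map inr (mem_map_of_mem _ (le_normalizer_of_normal (mem_top a)))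
    · rwa [card_map_of_injective inr_injective, ← Nat.card_congr e.toEquiv]
    · rintro _ ⟨a, rfl⟩
      obtain ⟨k, hk, y, ⟨i, rfl⟩, rfl⟩ := gen a
      exact ⟨inr k, mem_map_of_mem _ hk, inr h ^ i, ⟨i, rfl⟩, by rw [map_mul, map_zpow]⟩
    · refine eq_bot_iff.2 ?_
      rintro _ ⟨⟨g, rfl⟩, hg⟩
      rw [hfpf g fun a => inl_injective (φ := φ) ?_, map_one]
      · exact one_mem _
      · rw [inl_aut, hg (inr a) ⟨a, rfl⟩, map_inv, mul_inv_cancel_right]
  have := solv_of_inv box (G := G') (H.inv hd)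
  exact Group.isSolvable_of_isSolvable_injective (f := e.toMonoidHom) e.injective

/-- The statement with a cyclic Hall subgroup and a normal complement. -/
theorem s4042 (box : FPD.Box.{max u v}) (φ : A →* MulAut G)
    (hfpf : ∀ g : G, (∀ a : A, φ a g = g) → g = 1)
    (hHall : ∃ H : Subgroup A, Cfsg.IsPiHall {r : ℕ | r.Prime ∧ r ∣ Nat.card G} H ∧ IsCyclic H)
    (hcomp : ∃ K : Subgroup A, K.Normal ∧ (∀ r : ℕ, r.Prime → r ∣ Nat.card K → ¬ r ∣ Nat.card G) ∧
      ∀ r : ℕ, r.Prime → r ∣ K.index → r ∣ Nat.card G) : Group.IsSolvable G := by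
  obtain ⟨H, hH, hc⟩ := hHall
  obtain ⟨K, hK, h1, h2⟩ := hcomp
  obtain ⟨h, rfl⟩ := (Subgroup.isCyclic_iff_exists_zpowers_eq_top H).1 hc
  have ht : K ⊔ zpowers h = ⊤ := by
    refine index_eq_one.1 (Nat.eq_one_iff_not_exists_prime_dvd.2 fun r hr hd => ?_)
    exact hH.2 r hr ⟨hr, h2 r hr (hd.trans (index_dvd_of_le le_sup_left))⟩
      (hd.trans (index_dvd_of_le le_sup_right))
  refine solv_of_gen box φ hfpf K (Nat.coprime_of_dvd fun r hr hd => h1 r hr hd) h fun a => ?_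
  have : a ∈ ((K ⊔ zpowers h : Subgroup A) : Set A) := by rw [ht]; exact mem_top a
  rw [normal_mul] at this
  obtain ⟨k, hk, y, hy, rfl⟩ := this
  exact ⟨k, hk, y, hy, rfl⟩

end

end CfsgLib.FpfK
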